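import Mathlib
import Cfsg.Prelude.Def_GeometricClasses
import Cfsg.Agent.Lib.Helper44.TnsDefs

/-! # S5980 (tensor subgroups `Sp_a ⊗ O_b` of `Sp_{2d}(q)`): shared definitions (helper31)

`kronElt e P A B = P * (A ⊗ B reindexed along e) * P⁻¹`, the typical element of
`Cfsg.Geo.tensorProductSubgroup a b e P`, for an arbitrary index type `ι`. -/

set_option autoImplicit false
open scoped MatrixGroups Kronecker
open Matrix

namespace Cfsg.Agent.Lib.Helper31.SpTns

universe v

variable {F : Type v} [Field F] {ι : Type} [Fintype ι] [DecidableEq ι]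

/-- the Kronecker product of two invertible matrices as an element of `GL` -/
def kronGL {a b : ℕ} (A : GL (Fin a) F) (B : GL (Fin b) F) : GL (Fin a × Fin b) F :=
  ⟨A.val ⊗ₖ B.val, (A⁻¹ : GL (Fin a) F).val ⊗ₖ (B⁻¹ : GL (Fin b) F).val,
    by rw [← Matrix.mul_kronecker_mul, ← Units.val_mul, ← Units.val_mul, mul_inv_cancel,
      mul_inv_cancel, Units.val_one, Units.val_one, Matrix.one_kronecker_one],
    by rw [← Matrix.mul_kronecker_mul, ← Units.val_mul, ← Units.val_mul, inv_mul_cancel,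
      inv_mul_cancel, Units.val_one, Units.val_one, Matrix.one_kronecker_one]⟩

@[simp] theorem kronGL_val {a b : ℕ} (A : GL (Fin a) F) (B : GL (Fin b) F) :
    (kronGL A B).val = A.val ⊗ₖ B.val := rfl

theorem kronGL_mul {a b : ℕ} (A A' : GL (Fin a) F) (B B' : GL (Fin b) F) :
    kronGL A B * kronGL A' B' = kronGL (A * A') (B * B') := by
  apply Units.ext
  rw [Units.val_mul, kronGL_val, kronGL_val, kronGL_val, Units.val_mul, Units.val_mul,
    Matrix.mul_kronecker_mul]

theorem kronGL_one {a b : ℕ} : kronGL (1 : GL (Fin a) F) (1 : GL (Fin b) F) = 1 := by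
  apply Units.ext
  rw [kronGL_val, Units.val_one, Units.val_one, Units.val_one, Matrix.one_kronecker_one]

theorem kronGL_mem {a b : ℕ} (A : GL (Fin a) F) (B : GL (Fin b) F) :
    kronGL A B ∈ Cfsg.Geo.kroneckerSubgroup a b F := ⟨A, B, rfl⟩

/-- the typical element of the tensor subgroup -/
def kronElt {a b : ℕ} (e : ι ≃ Fin a × Fin b) (P : GL ι F) (A : GL (Fin a) F) (B : GL (Fin b) F) :
    GL ι F :=
  P * Cfsg.Geo.glReindex e.symm (kronGL A B) * P⁻¹

theorem kronElt_mem {a b : ℕ} (e : ι ≃ Fin a × Fin b) (P : GL ι F) (A : GL (Fin a) F)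
    (B : GL (Fin b) F) : kronElt e P A B ∈ Cfsg.Geo.tensorProductSubgroup a b e P := by
  unfold Cfsg.Geo.tensorProductSubgroup
  exact Subgroup.mem_map.2 ⟨Cfsg.Geo.glReindex e.symm (kronGL A B),
    Subgroup.mem_map.2 ⟨kronGL A B, kronGL_mem A B, rfl⟩, rfl⟩

theorem kronElt_mul {a b : ℕ} (e : ι ≃ Fin a × Fin b) (P : GL ι F) (A A' : GL (Fin a) F)
    (B B' : GL (Fin b) F) :
    kronElt e P A B * kronElt e P A' B' = kronElt e P (A * A') (B * B') := by
  unfold kronElt
  rw [← kronGL_mul, map_mul]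
  group

theorem kronElt_one {a b : ℕ} (e : ι ≃ Fin a × Fin b) (P : GL ι F) :
    kronElt e P (1 : GL (Fin a) F) (1 : GL (Fin b) F) = 1 := by
  unfold kronElt
  rw [kronGL_one, map_one]
  group

theorem glReindex_val {κ : Type} [Fintype κ] [DecidableEq κ] (s : κ ≃ ι) (k : GL κ F) :
    ((Cfsg.Geo.glReindex s k : GL ι F) : Matrix ι ι F) = Matrix.reindexAlgEquiv F F s k.val := rfl

theorem kronElt_val {a b : ℕ} (e : ι ≃ Fin a × Fin b) (P : GL ι F) (A : GL (Fin a) F)
    (B : GL (Fin b) F) :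
    (kronElt e P A B).val =
      P.val * Matrix.reindexAlgEquiv F F e.symm (A.val ⊗ₖ B.val) * (P⁻¹ : GL ι F).val := by
  unfold kronElt
  rw [Units.val_mul, Units.val_mul, glReindex_val, kronGL_val]

/-- reindexed matrices act on reindexed vectors -/
theorem reindex_mulVec_comp {a b : ℕ} (e : ι ≃ Fin a × Fin b)
    (K : Matrix (Fin a × Fin b) (Fin a × Fin b) F) (x : Fin a × Fin b → F) :
    Matrix.reindexAlgEquiv F F e.symm K *ᵥ (x ∘ e) = (K *ᵥ x) ∘ e := by
  funext i
  simp only [Matrix.mulVec, dotProduct, Matrix.coe_reindexAlgEquiv, Matrix.reindex_apply,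
    Matrix.submatrix_apply, Equiv.symm_symm, Function.comp_apply]
  exact Fintype.sum_equiv e _ _ (fun j => rfl)

/-- the action of `kronElt` in the coordinates of the tensor decomposition -/
theorem kronElt_mulVec {a b : ℕ} (e : ι ≃ Fin a × Fin b) (P : GL ι F) (A : GL (Fin a) F)
    (B : GL (Fin b) F) (x : Fin a × Fin b → F) :
    (kronElt e P A B).val *ᵥ (P.val *ᵥ (x ∘ e)) = P.val *ᵥ (((A.val ⊗ₖ B.val) *ᵥ x) ∘ e) := by
  rw [kronElt_val, Matrix.mulVec_mulVec, Matrix.mul_assoc, Matrix.mul_assoc, ← Units.val_mul,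
    inv_mul_cancel, Units.val_one, Matrix.mul_one, ← Matrix.mulVec_mulVec, reindex_mulVec_comp]

/-- every vector has coordinates in the tensor decomposition -/
theorem exists_coords {a b : ℕ} (e : ι ≃ Fin a × Fin b) (P : GL ι F) (u : ι → F) :
    ∃ x : Fin a × Fin b → F, u = P.val *ᵥ (x ∘ e) := by
  refine ⟨((P⁻¹ : GL ι F).val *ᵥ u) ∘ e.symm, ?_⟩
  have : (((P⁻¹ : GL ι F).val *ᵥ u) ∘ e.symm) ∘ e = (P⁻¹ : GL ι F).val *ᵥ u := by
    funext i; simp
  rw [this, Matrix.mulVec_mulVec, ← Units.val_mul, mul_inv_cancel, Units.val_one, Matrix.one_mulVec]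

/-- ranks of `kronElt + c` -/
theorem rank_kronElt_add_smul {a b : ℕ} (e : ι ≃ Fin a × Fin b) (P : GL ι F) (A : GL (Fin a) F)
    (B : GL (Fin b) F) (c : F) :
    ((kronElt e P A B).val + c • (1 : Matrix ι ι F)).rank =
      (A.val ⊗ₖ B.val + c • (1 : Matrix (Fin a × Fin b) (Fin a × Fin b) F)).rank := by
  have h1 : (kronElt e P A B).val + c • (1 : Matrix ι ι F) =
      P.val * Matrix.reindexAlgEquiv F F e.symm
        (A.val ⊗ₖ B.val + c • (1 : Matrix (Fin a × Fin b) (Fin a × Fin b) F)) *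
        (P⁻¹ : GL ι F).val := by
    rw [kronElt_val, map_add, map_smul, map_one, Matrix.mul_add, Matrix.add_mul, Matrix.mul_smul,
      Matrix.smul_mul, Matrix.mul_one, ← Units.val_mul, mul_inv_cancel, Units.val_one]
  have hP : IsUnit P.val.det := (Matrix.isUnit_iff_isUnit_det _).1 P.isUnit
  have hP' : IsUnit (P⁻¹ : GL ι F).val.det := (Matrix.isUnit_iff_isUnit_det _).1 (P⁻¹).isUnit
  rw [h1, Matrix.rank_mul_eq_left_of_isUnit_det _ _ hP', Matrix.rank_mul_eq_right_of_isUnit_det _ _ hP]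
  exact Matrix.rank_reindex e.symm e.symm _

end Cfsg.Agent.Lib.Helper31.SpTns
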