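import Mathlib
import Cfsg.Prelude.Def_GeometricClasses
import Cfsg.Agent.Lib.Helper99.SpMax
import Cfsg.Agent.Lib.Helper13.SympTrans

/-! # S5980 (helper31): leaves SPT-E0 and SPT-E3 -/

set_option autoImplicit false
open scoped MatrixGroups Kronecker
open Matrix

namespace Cfsg.Agent.Lib.Helper31.SpTns

universe v

variable {F : Type v} [Field F]

/-- SPT-E0 -/
theorem sq_scalar_pm_one {d : ℕ} (hd : 1 ≤ d) (x : GL (Fin d ⊕ Fin d) F) (hx : x ∈ Cfsg.spGL d F)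
    (z : F) (hxz : (x : Matrix (Fin d ⊕ Fin d) (Fin d ⊕ Fin d) F) *
      (x : Matrix (Fin d ⊕ Fin d) (Fin d ⊕ Fin d) F) = z • 1) : z = 1 ∨ z = -1 := by
  have hxp := (Cfsg.Agent.Lib.Helper99.mem_spGL_iff d x).1 hx
  have hu0 : (Pi.single (Sum.inl ⟨0, hd⟩) 1 : Fin d ⊕ Fin d → F) ≠ 0 := by
    intro h
    have := congrFun h (Sum.inl ⟨0, hd⟩)
    simp at this
  obtain ⟨w, hw⟩ := Cfsg.Agent.Lib.Helper13.exists_sympForm_ne_zero d _ hu0
  set u : Fin d ⊕ Fin d → F := Pi.single (Sum.inl ⟨0, hd⟩) 1 with hu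
  have h1 : Cfsg.sympForm d F (x.val *ᵥ (x.val *ᵥ u)) (x.val *ᵥ (x.val *ᵥ w)) =
      Cfsg.sympForm d F u w := by rw [hxp, hxp]
  rw [Matrix.mulVec_mulVec, Matrix.mulVec_mulVec, hxz, Matrix.smul_mulVec, Matrix.smul_mulVec,
    Matrix.one_mulVec, Matrix.one_mulVec] at h1
  have h2 : Cfsg.sympForm d F (z • u) (z • w) = z * z * Cfsg.sympForm d F u w := by
    unfold Cfsg.sympForm
    rw [Matrix.mulVec_smul, smul_dotProduct, dotProduct_smul, smul_eq_mul, smul_eq_mul, mul_assoc]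
  rw [h2] at h1
  have h3 : (z * z - 1) * Cfsg.sympForm d F u w = 0 := by linear_combination h1
  have hzz : z * z = 1 := sub_eq_zero.1 ((mul_eq_zero.1 h3).resolve_right hw)
  exact mul_self_eq_one_iff.1 hzz

/-- SPT-E3 -/
theorem gram_two_J (f₁ : (Fin 2 → F) → (Fin 2 → F) → F) (hf₁ : Cfsg.Geo.IsSymplecticForm f₁) :
    (!![0, 1; -1, 0] : Matrix (Fin 2) (Fin 2) F)ᵀ * Cfsg.Geo.gramMatrix f₁ * !![0, 1; -1, 0] =
      Cfsg.Geo.gramMatrix f₁ := by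
  have h00 : Cfsg.Geo.gramMatrix f₁ 0 0 = 0 := hf₁.alternating _
  have h11 : Cfsg.Geo.gramMatrix f₁ 1 1 = 0 := hf₁.alternating _
  have h10 : Cfsg.Geo.gramMatrix f₁ 1 0 = - Cfsg.Geo.gramMatrix f₁ 0 1 := hf₁.skew _ _
  ext i j
  fin_cases i <;> fin_cases j <;>
    simp [Matrix.mul_apply, Fin.sum_univ_two, h00, h11, h10]

end Cfsg.Agent.Lib.Helper31.SpTns
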