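import Mathlib
import Cfsg.Prelude.Def_GeometricClasses
import Cfsg.Agent.Lib.Helper99.SpMax
import Cfsg.Agent.Lib.Helper13.SpWitt
import Cfsg.Agent.Lib.Helper36.AltEven

/-! # S5980 (helper31): leaf SPT-E7 -/

set_option autoImplicit false
open scoped MatrixGroups Kronecker
open Matrix

namespace Cfsg.Agent.Lib.Helper31.SpTns

universe v

variable {F : Type v} [Field F]

/-- for an involution `x` of `Sp`, the image of `x + 1` (the `(+1)`-eigenspace) is non-degenerate -/
theorem e7_nondeg {d : ℕ} (h2 : (2 : F) ≠ 0) (x : GL (Fin d ⊕ Fin d) F)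
    (hx : x ∈ Cfsg.spGL d F) (hxx : x * x = 1) (u : Fin d ⊕ Fin d → F)
    (hu : u ∈ LinearMap.range (x.val + 1).mulVecLin)
    (h0 : ∀ w ∈ LinearMap.range (x.val + 1).mulVecLin, Cfsg.sympForm d F u w = 0) : u = 0 := by
  have hxp := (Cfsg.Agent.Lib.Helper99.mem_spGL_iff d x).1 hx
  have hxxv : ∀ v : Fin d ⊕ Fin d → F, x.val *ᵥ (x.val *ᵥ v) = v := by
    intro v
    rw [Matrix.mulVec_mulVec, ← Units.val_mul, hxx, Units.val_one, Matrix.one_mulVec]
  obtain ⟨v0, rfl⟩ := hu
  set u := (x.val + 1).mulVecLin v0 with hudef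
  have hxu : x.val *ᵥ u = u := by
    rw [hudef, Matrix.mulVecLin_apply, Matrix.add_mulVec, Matrix.one_mulVec, Matrix.mulVec_add,
      hxxv, add_comm]
  have hB := Cfsg.Agent.Lib.Helper13.sympBilin_apply (F := F) d
  have key : ∀ v, Cfsg.sympForm d F u v = 0 := by
    intro v
    have h1 : Cfsg.sympForm d F u (x.val *ᵥ v + v) = 0 := by
      apply h0
      exact ⟨v, by rw [Matrix.mulVecLin_apply, Matrix.add_mulVec, Matrix.one_mulVec]⟩
    have h3 : Cfsg.sympForm d F u (x.val *ᵥ v) = Cfsg.sympForm d F u v := by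
      have := hxp u (x.val *ᵥ v)
      rw [hxu, hxxv] at this
      exact this.symm
    rw [← hB, map_add, hB, hB, h3] at h1
    have h4 : (2 : F) * Cfsg.sympForm d F u v = 0 := by linear_combination h1
    exact (mul_eq_zero.1 h4).resolve_left h2
  have hnd := Cfsg.Agent.Lib.Helper13.sympBilin_nondegenerate (F := F) d
  apply hnd.1 u
  intro v
  rw [hB]
  exact key v

/-- SPT-E7 -/
theorem invol_rank_even {d : ℕ} (h2 : (2 : F) ≠ 0) (x : GL (Fin d ⊕ Fin d) F)
    (hx : x ∈ Cfsg.spGL d F) (hxx : x * x = 1) :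
    ∃ k ≤ d, (x.val + 1).rank = 2 * d - 2 * k := by
  set W : Submodule F (Fin d ⊕ Fin d → F) := LinearMap.range (x.val + 1).mulVecLin with hW
  have hrk : (x.val + 1).rank = Module.finrank F W := rfl
  set B : LinearMap.BilinForm F W := (Cfsg.Agent.Lib.Helper13.sympBilin F d).restrict W with hB
  have hBapp : ∀ a b : W, B a b = Cfsg.sympForm d F (a : Fin d ⊕ Fin d → F) b := by
    intro a b
    simp only [hB, LinearMap.BilinForm.restrict_apply, LinearMap.domRestrict_apply]
    exact Cfsg.Agent.Lib.Helper13.sympBilin_apply d _ _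
  have halt : B.IsAlt := by
    intro a
    rw [hBapp, ← Cfsg.Agent.Lib.Helper13.sympBilin_apply]
    exact Cfsg.Agent.Lib.Helper13.sympBilin_isAlt d _
  have hsep : B.SeparatingLeft := by
    intro a ha
    have := e7_nondeg h2 x hx hxx a.1 a.2 (fun w hw => by
      have := ha ⟨w, hw⟩
      rwa [hBapp] at this)
    exact Subtype.ext this
  have hnd : B.Nondegenerate :=
    (LinearMap.IsRefl.nondegenerate_iff_separatingLeft (B := B) halt.isRefl).2 hsep
  obtain ⟨m, hm⟩ := Cfsg.Agent.Lib.Helper36.even_finrank_of_isAlt_nondegenerate B halt hnd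
  have hle : Module.finrank F W ≤ 2 * d := by
    have := Submodule.finrank_le W
    rw [Module.finrank_fintype_fun_eq_card, Fintype.card_sum, Fintype.card_fin] at this
    omega
  refine ⟨d - m, Nat.sub_le _ _, ?_⟩
  rw [hrk, hm]
  omega

end Cfsg.Agent.Lib.Helper31.SpTns
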