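import Mathlib
import Cfsg.Prelude.Def_GeometricClasses
import Cfsg.Agent.Lib.Helper99.SpMax
import Cfsg.Agent.Lib.Helper13.SpWitt
import Cfsg.Agent.Lib.Helper31.SpTns.E7

/-! # S5980 (helper31): leaf SPT-E5, conjugacy of symplectic involutions -/

set_option autoImplicit false
open scoped MatrixGroups Kronecker
open Matrix

namespace Cfsg.Agent.Lib.Helper31.SpTns

universe v

variable {F : Type v} [Field F]

/-- a symplectic involution is determined by the image of `x + 1` -/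
theorem e5_unique {d : ℕ} (h2 : (2 : F) ≠ 0) (x y : GL (Fin d ⊕ Fin d) F)
    (hx : x ∈ Cfsg.spGL d F) (hy : y ∈ Cfsg.spGL d F) (hxx : x * x = 1) (hyy : y * y = 1)
    (hW : LinearMap.range (x.val + 1).mulVecLin = LinearMap.range (y.val + 1).mulVecLin) :
    x = y := by
  have hxp := (Cfsg.Agent.Lib.Helper99.mem_spGL_iff d x).1 hx
  have hyp := (Cfsg.Agent.Lib.Helper99.mem_spGL_iff d y).1 hy
  have hxxv : ∀ v : Fin d ⊕ Fin d → F, x.val *ᵥ (x.val *ᵥ v) = v := by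
    intro v
    rw [Matrix.mulVec_mulVec, ← Units.val_mul, hxx, Units.val_one, Matrix.one_mulVec]
  have hyyv : ∀ v : Fin d ⊕ Fin d → F, y.val *ᵥ (y.val *ᵥ v) = v := by
    intro v
    rw [Matrix.mulVec_mulVec, ← Units.val_mul, hyy, Units.val_one, Matrix.one_mulVec]
  have hB := Cfsg.Agent.Lib.Helper13.sympBilin_apply (F := F) d
  -- elements of the common range are fixed by both
  have hfixx : ∀ w ∈ LinearMap.range (x.val + 1).mulVecLin, x.val *ᵥ w = w := by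
    rintro w ⟨v, rfl⟩
    rw [Matrix.mulVecLin_apply, Matrix.add_mulVec, Matrix.one_mulVec, Matrix.mulVec_add, hxxv,
      add_comm]
  have hfixy : ∀ w ∈ LinearMap.range (x.val + 1).mulVecLin, y.val *ᵥ w = w := by
    intro w hw
    rw [hW] at hw
    obtain ⟨v, rfl⟩ := hw
    rw [Matrix.mulVecLin_apply, Matrix.add_mulVec, Matrix.one_mulVec, Matrix.mulVec_add, hyyv,
      add_comm]
  apply Units.ext
  rw [Matrix.ext_iff_mulVec]
  intro v
  set a := x.val *ᵥ v - y.val *ᵥ v with ha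
  -- `y x v = x v + v - y v`
  have h1 : y.val *ᵥ (x.val *ᵥ v) = x.val *ᵥ v + v - y.val *ᵥ v := by
    have := hfixy (x.val *ᵥ v + v)
      ⟨v, by rw [Matrix.mulVecLin_apply, Matrix.add_mulVec, Matrix.one_mulVec]⟩
    rw [Matrix.mulVec_add] at this
    rw [eq_sub_iff_add_eq, this]
  -- `y a = a`, hence `a` is in the range
  have hya : y.val *ᵥ a = a := by
    rw [ha, Matrix.mulVec_sub, h1, hyyv]
    abel
  have haW : a ∈ LinearMap.range (x.val + 1).mulVecLin := by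
    rw [hW]
    refine ⟨(2 : F)⁻¹ • a, ?_⟩
    rw [Matrix.mulVecLin_apply, Matrix.add_mulVec, Matrix.one_mulVec, Matrix.mulVec_smul, hya,
      ← add_smul, ← two_mul, mul_inv_cancel₀ h2, one_smul]
  -- `a` is orthogonal to the range
  have horth : ∀ w ∈ LinearMap.range (x.val + 1).mulVecLin, Cfsg.sympForm d F a w = 0 := by
    intro w hw
    have e1 : Cfsg.sympForm d F (x.val *ᵥ v) w = Cfsg.sympForm d F v w := by
      have := hxp v w
      rwa [hfixx w hw] at this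
    have e2 : Cfsg.sympForm d F (y.val *ᵥ v) w = Cfsg.sympForm d F v w := by
      have := hyp v w
      rwa [hfixy w hw] at this
    rw [ha, ← hB, map_sub, LinearMap.sub_apply, hB, hB, e1, e2, sub_self]
  have := e7_nondeg h2 x hx hxx a haW horth
  rw [ha, sub_eq_zero] at this
  exact this

/-- the range of `x + 1` for a conjugate -/
theorem e5_range {d : ℕ} (Q x : GL (Fin d ⊕ Fin d) F) (v : Fin d ⊕ Fin d → F) :
    v ∈ LinearMap.range ((Q⁻¹ * x * Q : GL (Fin d ⊕ Fin d) F).val + 1).mulVecLin ↔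
      Q.val *ᵥ v ∈ LinearMap.range (x.val + 1).mulVecLin := by
  have hQQ : Q.val * (Q⁻¹ : GL (Fin d ⊕ Fin d) F).val = 1 := by
    rw [← Units.val_mul, mul_inv_cancel, Units.val_one]
  have hQQ' : (Q⁻¹ : GL (Fin d ⊕ Fin d) F).val * Q.val = 1 := by
    rw [← Units.val_mul, inv_mul_cancel, Units.val_one]
  have hform : (Q⁻¹ * x * Q : GL (Fin d ⊕ Fin d) F).val + 1 =
      (Q⁻¹ : GL (Fin d ⊕ Fin d) F).val * (x.val + 1) * Q.val := by
    rw [Units.val_mul, Units.val_mul, Matrix.mul_add, Matrix.add_mul, Matrix.mul_one, hQQ']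
  constructor
  · rintro ⟨u, rfl⟩
    refine ⟨Q.val *ᵥ u, ?_⟩
    rw [Matrix.mulVecLin_apply, Matrix.mulVecLin_apply, hform]
    simp only [Matrix.mulVec_mulVec]
    congr 1
    rw [← Matrix.mul_assoc, ← Matrix.mul_assoc, hQQ, Matrix.one_mul]
  · rintro ⟨u, hu⟩
    refine ⟨(Q⁻¹ : GL (Fin d ⊕ Fin d) F).val *ᵥ u, ?_⟩
    rw [Matrix.mulVecLin_apply] at hu
    rw [Matrix.mulVecLin_apply, hform, Matrix.mulVec_mulVec, Matrix.mul_assoc, hQQ, Matrix.mul_one,
      ← Matrix.mulVec_mulVec, hu, Matrix.mulVec_mulVec, hQQ', Matrix.one_mulVec]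

/-- SPT-E5 -/
theorem sp_conj_of_invol {d : ℕ} (h2 : (2 : F) ≠ 0) (x y : GL (Fin d ⊕ Fin d) F)
    (hx : x ∈ Cfsg.spGL d F) (hy : y ∈ Cfsg.spGL d F) (hxx : x * x = 1) (hyy : y * y = 1)
    (hrk : (x.val + 1).rank = (y.val + 1).rank) :
    ∃ g ∈ Cfsg.spGL d F, g⁻¹ * x * g = y := by
  obtain ⟨k, hk, hrkx⟩ := invol_rank_even h2 x hx hxx
  have hrky : (y.val + 1).rank = 2 * d - 2 * k := by rw [← hrk, hrkx]
  have hkk : 2 * d - 2 * k = 2 * (d - k) := by omega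
  have hdk : d - k ≤ d := Nat.sub_le _ _
  obtain ⟨Qx, hQx⟩ := Cfsg.Agent.Lib.Helper13.exists_sp_map_stdW d (d - k) hdk
    (LinearMap.range (x.val + 1).mulVecLin) (by rw [← hkk, ← hrkx]; rfl)
    (fun u hu h0 => e7_nondeg h2 x hx hxx u hu h0)
  obtain ⟨Qy, hQy⟩ := Cfsg.Agent.Lib.Helper13.exists_sp_map_stdW d (d - k) hdk
    (LinearMap.range (y.val + 1).mulVecLin) (by rw [← hkk, ← hrky]; rfl)
    (fun u hu h0 => e7_nondeg h2 y hy hyy u hu h0)
  set gx : GL (Fin d ⊕ Fin d) F := Cfsg.Agent.Lib.Helper99.spToGL d Qx with hgx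
  set gy : GL (Fin d ⊕ Fin d) F := Cfsg.Agent.Lib.Helper99.spToGL d Qy with hgy
  have hgxm : gx ∈ Cfsg.spGL d F := Cfsg.Agent.Lib.Helper99.spToGL_mem d Qx
  have hgym : gy ∈ Cfsg.spGL d F := Cfsg.Agent.Lib.Helper99.spToGL_mem d Qy
  have hx' : gx⁻¹ * x * gx ∈ Cfsg.spGL d F :=
    Subgroup.mul_mem _ (Subgroup.mul_mem _ (Subgroup.inv_mem _ hgxm) hx) hgxm
  have hy' : gy⁻¹ * y * gy ∈ Cfsg.spGL d F :=
    Subgroup.mul_mem _ (Subgroup.mul_mem _ (Subgroup.inv_mem _ hgym) hy) hgym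
  have hxx' : (gx⁻¹ * x * gx) * (gx⁻¹ * x * gx) = 1 := by
    have : (gx⁻¹ * x * gx) * (gx⁻¹ * x * gx) = gx⁻¹ * (x * x) * gx := by group
    rw [this, hxx]; group
  have hyy' : (gy⁻¹ * y * gy) * (gy⁻¹ * y * gy) = 1 := by
    have : (gy⁻¹ * y * gy) * (gy⁻¹ * y * gy) = gy⁻¹ * (y * y) * gy := by group
    rw [this, hyy]; group
  have hWW : LinearMap.range ((gx⁻¹ * x * gx : GL (Fin d ⊕ Fin d) F).val + 1).mulVecLin =
      LinearMap.range ((gy⁻¹ * y * gy : GL (Fin d ⊕ Fin d) F).val + 1).mulVecLin := by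
    ext v
    rw [e5_range, e5_range, hgx, hgy, Cfsg.Agent.Lib.Helper99.coe_spToGL,
      Cfsg.Agent.Lib.Helper99.coe_spToGL, ← hQx v, ← hQy v]
  have heq := e5_unique h2 _ _ hx' hy' hxx' hyy' hWW
  refine ⟨gx * gy⁻¹, Subgroup.mul_mem _ hgxm (Subgroup.inv_mem _ hgym), ?_⟩
  have : (gx * gy⁻¹)⁻¹ * x * (gx * gy⁻¹) = gy * (gx⁻¹ * x * gx) * gy⁻¹ := by group
  rw [this, heq]
  group

end Cfsg.Agent.Lib.Helper31.SpTns
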