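import Mathlib
import Cfsg.Prelude.Def_GeometricClasses
import Cfsg.Agent.Lib.Helper44.TnsObs
import Cfsg.Agent.Lib.Helper59.SpTnsT2
import Cfsg.Agent.Lib.Helper83.SpTnsT3

/-! # S5980 (helper31): leaf SPT-T4, one side of the Kronecker obstruction -/

set_option autoImplicit false
open scoped MatrixGroups Kronecker
open Matrix Polynomial

namespace Cfsg.Agent.Lib.Helper31.SpTns

open Cfsg.Agent.Lib.Helper44.Tns

universe v

variable {F : Type v} [Field F]

/-- SPT-T4 -/
theorem kron_side [Fintype F] {p : ℕ} [Fact p.Prime] [CharP F p] {n a b : ℕ} (hab : n = a * b)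
    (ha : 1 ≤ a) (hb : 1 ≤ b) (e : Fin n ≃ Fin a × Fin b) (r : ℕ) [Fact r.Prime] (hrp : r ≠ p)
    (hd2 : 2 ≤ orderOf ((Fintype.card F : ℕ) : ZMod r))
    (x : Matrix (Fin n) (Fin n) F) (g : F[X]) (hxr : x ^ r = 1) (hg : Irreducible g)
    (hgd : g.natDegree = orderOf ((Fintype.card F : ℕ) : ZMod r)) (hdn : g.natDegree ≤ n)
    (hrg : (aeval x g).rank = n - g.natDegree) (hsim : IsKronSimilar a b e x) :
    a = 1 ∨ (g.natDegree ≤ a ∧ b ≤ (x - 1).rank ∧ (3 ≤ g.natDegree → 2 * b ≤ (x - 1).rank)) := by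
  obtain ⟨A, B, hA, hB, hrk, hpow⟩ := exists_rank_of_isKronSimilar e x hsim
  set d := g.natDegree with hd
  by_cases hAs : ∃ z : F, A = z • (1 : Matrix (Fin a) (Fin a) F)
  · left
    obtain ⟨z, rfl⟩ := hAs
    have h2 : (z • (1 : Matrix (Fin a) (Fin a) F)) ⊗ₖ B
        = (1 : Matrix (Fin a) (Fin a) F) ⊗ₖ (z • B) := by
      rw [Matrix.smul_kronecker, Matrix.kronecker_smul]
    have h3 := hrk g
    rw [h2, aeval_one_kronecker, rank_one_kronecker, hrg] at h3
    obtain ⟨j, hj⟩ := natDegree_dvd_of_irreducible (z • B) g hg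
    have hle : (aeval (z • B) g).rank ≤ b := by
      have := Matrix.rank_le_card_width (aeval (z • B) g)
      simpa using this
    rw [← hd] at hj
    set ρ := (aeval (z • B) g).rank with hρ
    have h4 : a * b = a * ρ + d := by omega
    have h5 : b = ρ + d * j := by omega
    have h6 : a * (d * j) = d := by
      have : a * b = a * ρ + a * (d * j) := by rw [h5]; ring
      omega
    have hd0 : 0 < d := by omega
    have h7 : d * (a * j) = d * 1 := by rw [mul_one]; nlinarith
    have h8 : a * j = 1 := Nat.eq_of_mul_eq_mul_left hd0 h7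
    exact Nat.eq_one_of_mul_eq_one_right (by rw [mul_comm] at h8; rw [mul_comm]; exact h8)
  · right
    push Not at hAs
    have h1 := le_rank_kronecker_sub A B hAs hB 1
    have h2 := hrk (X - C 1)
    rw [obs_aeval_sub_smul, obs_aeval_sub_smul, one_smul, one_smul] at h2
    rw [one_smul, ← h2] at h1
    have h3 := hpow r hxr
    rw [kronecker_pow'] at h3
    have h4 : (A ^ r) ⊗ₖ (B ^ r) = (1 : F) • (1 : Matrix (Fin a × Fin b) (Fin a × Fin b) F) := by
      rw [h3, one_smul]
    obtain ⟨μ, hμ⟩ := eq_smul_one_of_kronecker (by omega) (A ^ r) (B ^ r) 1 one_ne_zero h4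
    have hμ0 : μ ≠ 0 := by
      rintro rfl
      rw [zero_smul] at hμ
      have hdet : IsUnit (A ^ r).det := by
        rw [Matrix.det_pow]
        exact hA.pow r
      have : Nonempty (Fin a) := ⟨⟨0, by omega⟩⟩
      rw [hμ, Matrix.det_zero] at hdet
      exact not_isUnit_zero hdet
    refine ⟨?_, h1, ?_⟩
    · by_contra hlt
      have had : a < orderOf ((Fintype.card F : ℕ) : ZMod r) := by rw [← hgd]; omega
      obtain ⟨z, hz⟩ := eq_smul_one_of_pow_eq_smul (p := p) r hrp hd2 had A μ hμ0 hμ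
      exact hAs z hz
    · intro h3d
      obtain ⟨v, hv⟩ := exists_chain (p := p) r hrp (by rw [← hgd]; exact h3d) A μ hμ0 hμ hAs
      have h5 := le_rank_kronecker_sub_two A B v hv hB 1
      rw [one_smul, ← h2] at h5
      exact h5

end Cfsg.Agent.Lib.Helper31.SpTns
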