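import Mathlib
import Cfsg.Prelude.Def_GeometricClasses
import Cfsg.Agent.Lib.Helper31.SpTns.T4
import Cfsg.Agent.Lib.Helper27.SpTnsT1

/-! # S5980 (helper31): the block obstruction, symmetric in the two tensor factors -/

set_option autoImplicit false
open scoped MatrixGroups Kronecker
open Matrix Polynomial

namespace Cfsg.Agent.Lib.Helper31.SpTns

open Cfsg.Agent.Lib.Helper44.Tns (IsKronSimilar)

universe v

variable {F : Type v} [Field F] [Fintype F]

/-- SPT-T5 : an element with one (pair of) irreducible block(s) of dimension `ord_r(q)` is not similar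
to a Kronecker product `A ⊗ B` with `a` even, `a ≥ 2`, `b ≥ 3`. -/
theorem not_isKronSimilar_block_sp {p : ℕ} [Fact p.Prime] [CharP F p] {n a b : ℕ} (hab : n = a * b)
    (ha : 2 ≤ a) (hae : Even a) (hb : 3 ≤ b) (e : Fin n ≃ Fin a × Fin b) (r : ℕ) [Fact r.Prime]
    (hrp : r ≠ p) (hd2 : 2 ≤ orderOf ((Fintype.card F : ℕ) : ZMod r))
    (x : Matrix (Fin n) (Fin n) F) (g : F[X]) (hxr : x ^ r = 1) (hg : Irreducible g)
    (hgd : g.natDegree = orderOf ((Fintype.card F : ℕ) : ZMod r))
    (hr1 : (x - 1).rank = g.natDegree ∨ (Odd g.natDegree ∧ (x - 1).rank = 2 * g.natDegree))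
    (hrg : (aeval x g).rank = n - g.natDegree) :
    ¬ IsKronSimilar a b e x := by
  intro hsim
  have hrkn : (x - 1).rank ≤ n := by
    have := Matrix.rank_le_card_width (x - 1)
    simpa using this
  have hdn : g.natDegree ≤ n := by
    rcases hr1 with h | ⟨_, h⟩ <;> omega
  have s1 := kron_side (p := p) hab (by omega) (by omega) e r hrp hd2 x g hxr hg hgd hdn hrg hsim
  have s2 := kron_side (p := p) (by rw [hab, mul_comm]) (by omega) (by omega)
    (e.trans (Equiv.prodComm (Fin a) (Fin b))) r hrp hd2 x g hxr hg hgd hdn hrg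
    (isKronSimilar_swap e x hsim)
  rw [← hgd] at hd2
  rcases s1 with h | ⟨h1, h2, h3⟩
  · omega
  rcases s2 with h | ⟨h4, h5, h6⟩
  · omega
  obtain ⟨k, hk⟩ := hae
  rcases hr1 with h | ⟨ho, h⟩
  · by_cases h7 : 3 ≤ g.natDegree
    · have := h3 h7
      omega
    · omega
  · obtain ⟨j, hj⟩ := ho
    have h7 : 3 ≤ g.natDegree := by omega
    have := h3 h7
    have := h6 h7
    omega

end Cfsg.Agent.Lib.Helper31.SpTns
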