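import Mathlib
import Cfsg.Prelude.Def_GeometricClasses
import Cfsg.Agent.Lib.Helper31.SpTns.Defs

/-! # S5980 (helper31): transport from an arbitrary index type `ι` to `Fin n` -/

set_option autoImplicit false
open scoped MatrixGroups Kronecker
open Matrix Polynomial

namespace Cfsg.Agent.Lib.Helper31.SpTns

open Cfsg.Agent.Lib.Helper44.Tns (IsKronSimilar)

universe v

variable {F : Type v} [Field F] {ι : Type} [Fintype ι] [DecidableEq ι]

theorem tr_reindex_eq {n : ℕ} (φ : ι ≃ Fin n) (M : Matrix ι ι F) :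
    Matrix.reindex φ φ M = Matrix.reindexAlgEquiv F F φ M := rfl

theorem tr_rank_aeval {n : ℕ} (φ : ι ≃ Fin n) (M : Matrix ι ι F) (f : F[X]) :
    (aeval (Matrix.reindex φ φ M) f).rank = (aeval M f).rank := by
  rw [tr_reindex_eq, Polynomial.aeval_algHom_apply, ← tr_reindex_eq, Matrix.rank_reindex]

theorem tr_rank_sub_smul {n : ℕ} (φ : ι ≃ Fin n) (M : Matrix ι ι F) (c : F) :
    (Matrix.reindex φ φ M - c • (1 : Matrix (Fin n) (Fin n) F)).rank =
      (M - c • (1 : Matrix ι ι F)).rank := by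
  have h : Matrix.reindex φ φ M - c • (1 : Matrix (Fin n) (Fin n) F) =
      Matrix.reindex φ φ (M - c • (1 : Matrix ι ι F)) := by
    rw [tr_reindex_eq, tr_reindex_eq, map_sub, map_smul, map_one]
  rw [h, Matrix.rank_reindex]

theorem tr_rank_sub_one {n : ℕ} (φ : ι ≃ Fin n) (M : Matrix ι ι F) :
    (Matrix.reindex φ φ M - 1).rank = (M - 1).rank := by
  have := tr_rank_sub_smul φ M 1
  rwa [one_smul, one_smul] at this

theorem tr_pow {n : ℕ} (φ : ι ≃ Fin n) (M : Matrix ι ι F) (k : ℕ) :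
    (Matrix.reindex φ φ M) ^ k = Matrix.reindex φ φ (M ^ k) := by
  rw [tr_reindex_eq, tr_reindex_eq, map_pow]

theorem tr_pow_eq_one {n : ℕ} (φ : ι ≃ Fin n) (M : Matrix ι ι F) (k : ℕ) (h : M ^ k = 1) :
    (Matrix.reindex φ φ M) ^ k = 1 := by
  rw [tr_pow, h, tr_reindex_eq, map_one]

/-- membership of a conjugate in the tensor subgroup gives Kronecker similarity of the reindexed matrix -/
theorem isKronSimilar_of_conj_mem_gen {n a b : ℕ} (φ : ι ≃ Fin n) (e : ι ≃ Fin a × Fin b)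
    (P x g : GL ι F) (h : g⁻¹ * x * g ∈ Cfsg.Geo.tensorProductSubgroup a b e P) :
    IsKronSimilar a b (φ.symm.trans e) (Matrix.reindex φ φ (x : Matrix ι ι F)) := by
  unfold Cfsg.Geo.tensorProductSubgroup at h
  obtain ⟨y, hy, hyx⟩ := Subgroup.mem_map.1 h
  obtain ⟨k, hk, rfl⟩ := Subgroup.mem_map.1 hy
  obtain ⟨A, B, hAB⟩ := hk
  have h1 : P * Cfsg.Geo.glReindex e.symm k * P⁻¹ = g⁻¹ * x * g := hyx
  have hx : x = (g * P) * (Cfsg.Geo.glReindex e.symm k) * (g * P)⁻¹ := by
    calc x = g * (g⁻¹ * x * g) * g⁻¹ := by group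
      _ = _ := by rw [← h1]; group
  refine ⟨A.val, B.val, Matrix.reindexAlgEquiv F F e (g * P).val,
    Matrix.reindexAlgEquiv F F e ((g * P)⁻¹ : GL ι F).val, ?_, ?_, ?_, ?_⟩
  · exact (Matrix.isUnit_iff_isUnit_det _).1 A.isUnit
  · exact (Matrix.isUnit_iff_isUnit_det _).1 B.isUnit
  · rw [← map_mul, ← Units.val_mul, mul_inv_cancel, Units.val_one, map_one]
  · have h2 : (x : Matrix ι ι F) =
        (g * P).val * Matrix.reindexAlgEquiv F F e.symm k.val * ((g * P)⁻¹ : GL ι F).val := by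
      conv_lhs => rw [hx]
      rw [Units.val_mul, Units.val_mul, glReindex_val]
    have h3 : Matrix.reindex (φ.symm.trans e) (φ.symm.trans e) (Matrix.reindex φ φ (x : Matrix ι ι F)) =
        Matrix.reindexAlgEquiv F F e (x : Matrix ι ι F) := by
      ext i j
      simp [Matrix.reindex_apply, Matrix.coe_reindexAlgEquiv]
    have h4 : Matrix.reindexAlgEquiv F F e (Matrix.reindexAlgEquiv F F e.symm k.val) = k.val := by
      ext i j
      simp [Matrix.coe_reindexAlgEquiv]
    rw [h3, h2, map_mul, map_mul, h4, hAB]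

end Cfsg.Agent.Lib.Helper31.SpTns
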